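import Cfsg.Agent.H306.QA.CrFin
import Cfsg.Agent.H152.QA.PTools
import Cfsg.Agent.H847.Co1Small
import Cfsg.Agent.S2043

/-!
# S4979, layer (A): the row `Co1` (helper600)

The multiplier has order 2, so `V` is a module for `Co1`, of dimension `≥ 276` (helper847); `q ≥ 17`; chain criterion. For
`p = 3` the number of Sylow 3-subgroups is at most half of the 3'-part of the order (which is 2 modulo 3).
-/

set_option autoImplicit false
set_option linter.style.haveILetI false

namespace Cfsg.Agent.H600.QA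

open Cfsg Cfsg.Agent.H80.Fpf Cfsg.Agent.H152.QA Cfsg.Agent.H306.QA

theorem minDeg_co1 : Cfsg.Agent.H122.MinDeg Spor.Co1 276 := by
  rintro M _ _ _ ρ ⟨g, hg⟩
  by_contra hlt
  exact hg (Cfsg.Agent.H847.Co1Small.trivial_of_lt ρ (not_le.1 hlt) g)

/-- the numeric end -/
theorem chain_end {c b n m k B q0 q d : ℕ} (hm : 1 ≤ m) (h1 : c ^ (m - 1) ≤ b) (hc : 1 < c) (hb : b < c ^ k)
    (hn : 1 ≤ n) (hk : n ^ k < q0 ^ B) (hq : q0 ≤ q) (hq1 : 1 ≤ q0) (hd : B ≤ d) (h : q ^ d ≤ n ^ m) : False := by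
  have h2 : m - 1 < k := (Nat.pow_lt_pow_iff_right hc).1 (h1.trans_lt hb)
  have h3 : n ^ m ≤ n ^ k := Nat.pow_le_pow_right hn (by omega)
  have h4 : q0 ^ B ≤ q ^ d := (Nat.pow_le_pow_left hq B).trans (Nat.pow_le_pow_right (hq1.trans hq) hd)
  omega

/-- the number of Sylow subgroups when the index is not `1` modulo `p` -/
theorem two_mul_card_sylow_le {S : Type} [Group S] [Finite S] {p : ℕ} (hp : p.Prime) {a c : ℕ}
    (hN : Nat.card S = p ^ a * c) (hc : ¬ p ∣ c) (h1 : c % p ≠ 1) : 2 * Nat.card (Sylow p S) ≤ c := by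
  have := Fact.mk hp
  obtain ⟨P⟩ : Nonempty (Sylow p S) := inferInstance
  have hP : Nat.card (P : Subgroup S) = p ^ a := by
    rw [P.card_eq_multiplicity, hN, Nat.factorization_mul (pow_ne_zero _ hp.ne_zero) (by rintro rfl; exact hc (dvd_zero _)),
      Nat.Prime.factorization_pow hp]
    simp [Nat.factorization_eq_zero_of_not_dvd hc]
  have hidx : (P : Subgroup S).index = c := by
    have h2 := (P : Subgroup S).card_mul_index
    rw [hP, hN] at h2
    exact Nat.eq_of_mul_eq_mul_left (pow_pos hp.pos a) h2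
  have hd : Nat.card (Sylow p S) ∣ c := by
    have := P.card_dvd_index
    rwa [hidx] at this
  obtain ⟨k, hk⟩ := hd
  have hmod : Nat.card (Sylow p S) ≡ 1 [MOD p] := card_sylow_modEq_one p S
  have hc0 : 0 < c := Nat.pos_of_ne_zero (by rintro rfl; exact hc (dvd_zero _))
  have hk2 : 2 ≤ k := by
    by_contra hlt
    have hk0 : k ≠ 0 := by rintro rfl; rw [mul_zero] at hk; omega
    have hk1 : k = 1 := by omega
    rw [hk1, mul_one] at hk
    rw [← hk] at hmod
    apply h1
    have h3 : c % p = 1 % p := hmod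
    rw [h3, Nat.mod_eq_of_lt hp.one_lt]
  calc 2 * Nat.card (Sylow p S) ≤ k * Nat.card (Sylow p S) := Nat.mul_le_mul_right _ hk2
    _ = c := by rw [hk, mul_comm]

theorem noSit_co1 : NoSit Spor.Co1 := by
  haveI hs : IsSimpleGroup Spor.Co1 := Cfsg.Agent.S0399.result.1
  have hcard : Nat.card Spor.Co1 = 4157776806543360000 := Cfsg.Agent.S0399.result.2
  haveI : Finite Spor.Co1 := Nat.finite_of_card_ne_zero (by rw [hcard]; norm_num)
  intro p q L V _ _ _ _ _ π N φ hπ h
  have hm : MultDvd Spor.Co1 2 := multDvd_of_cyclic two_ne_zero Cfsg.Agent.S2043.result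
  obtain ⟨_, hP⟩ := h.exists_pSit_prime hπ Nat.prime_two hm
  obtain ⟨d, hd, hd276⟩ := hP.exists_dim minDeg_co1
  obtain ⟨m, hm1, hm2, hm3⟩ := Cfsg.Agent.H306.QA.Sit.chain h hπ
  rw [hd] at hm3
  have hq17 : 17 ≤ q := by
    have hqS := hP.qG
    rw [hcard] at hqS
    by_contra hlt
    have hq := hP.hq
    have : q < 17 := by omega
    interval_cases q <;> revert hq hqS <;> norm_num
  have hpS := hP.pG
  rw [hcard] at hpS
  have hp := h.hp
  have hfac : (4157776806543360000 : ℕ) = 2 ^ 21 * 3 ^ 9 * 5 ^ 4 * 7 ^ 2 * 11 * 13 * 23 := by norm_num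
  have hp' : p = 2 ∨ p = 3 ∨ p = 5 ∨ p = 7 ∨ p = 11 ∨ p = 13 ∨ p = 23 := by
    rw [hfac] at hpS
    simp only [hp.dvd_mul] at hpS
    have h2 : ∀ {r k : ℕ}, r.Prime → p ∣ r ^ k → p = r := fun hr hd =>
      (Nat.prime_dvd_prime_iff_eq hp hr).1 (hp.dvd_of_dvd_pow hd)
    have h3 : ∀ {r : ℕ}, r.Prime → p ∣ r → p = r := fun hr hd => (Nat.prime_dvd_prime_iff_eq hp hr).1 hd
    rcases hpS with (((((h1 | h1) | h1) | h1) | h1) | h1) | h1
    · exact Or.inl (h2 Nat.prime_two h1)
    · exact Or.inr (Or.inl (h2 Nat.prime_three h1))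
    · exact Or.inr (Or.inr (Or.inl (h2 Nat.prime_five h1)))
    · exact Or.inr (Or.inr (Or.inr (Or.inl (h2 (by norm_num) h1))))
    · exact Or.inr (Or.inr (Or.inr (Or.inr (Or.inl (h3 (by norm_num) h1)))))
    · exact Or.inr (Or.inr (Or.inr (Or.inr (Or.inr (Or.inl (h3 (by norm_num) h1))))))
    · exact Or.inr (Or.inr (Or.inr (Or.inr (Or.inr (Or.inr (h3 (by norm_num) h1))))))
  have hord : ∀ {r a c : ℕ}, r.Prime → 4157776806543360000 = r ^ a * c → ¬ r ∣ c →
      ordCompl[r] (Nat.card Spor.Co1) = c := by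
    intro r a c hr h1 h2
    rw [hcard, h1, Nat.ordCompl_self_pow_mul _ _ hr, Nat.factorization_eq_zero_of_not_dvd h2, pow_zero, Nat.div_one]
  have hsyl : ∀ {r a c : ℕ}, r.Prime → 4157776806543360000 = r ^ a * c → ¬ r ∣ c → Nat.card (Sylow r Spor.Co1) ≤ c := by
    intro r a c hr h1 h2
    have h3 := Cfsg.Agent.H306.QA.card_sylow_le_ordCompl (S := Spor.Co1) hr
    rwa [hord hr h1 h2] at h3
  rcases hp' with rfl | rfl | rfl | rfl | rfl | rfl | rfl
  · exact h.odd rfl
  · have e1 : (4157776806543360000 : ℕ) = 3 ^ 9 * 211236945920000 := by norm_num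
    rw [hord hp e1 (by norm_num)] at hm2
    have h4 := two_mul_card_sylow_le (S := Spor.Co1) hp (hcard.trans e1) (by norm_num) (by norm_num)
    exact chain_end (n := 105618472960000) (k := 24) (B := 276) (q0 := 17) hm1 hm2 (by norm_num) (by norm_num)
      (by norm_num) (by decide +kernel) hq17 (by norm_num) hd276 (hm3.trans (Nat.pow_le_pow_left (by omega) m))
  · have e1 : (4157776806543360000 : ℕ) = 5 ^ 4 * 6652442890469376 := by norm_num
    rw [hord hp e1 (by norm_num)] at hm2
    exact chain_end (n := 6652442890469376) (k := 21) (B := 276) (q0 := 17) hm1 hm2 (by norm_num) (by norm_num)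
      (by norm_num) (by decide +kernel) hq17 (by norm_num) hd276
      (hm3.trans (Nat.pow_le_pow_left (hsyl hp e1 (by norm_num)) m))
  · have e1 : (4157776806543360000 : ℕ) = 7 ^ 2 * 84852587888640000 := by norm_num
    rw [hord hp e1 (by norm_num)] at hm2
    exact chain_end (n := 84852587888640000) (k := 19) (B := 276) (q0 := 17) hm1 hm2 (by norm_num) (by norm_num)
      (by norm_num) (by decide +kernel) hq17 (by norm_num) hd276
      (hm3.trans (Nat.pow_le_pow_left (hsyl hp e1 (by norm_num)) m))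
  · have e1 : (4157776806543360000 : ℕ) = 11 ^ 1 * 377979709685760000 := by norm_num
    rw [hord hp e1 (by norm_num)] at hm2
    exact chain_end (n := 377979709685760000) (k := 17) (B := 276) (q0 := 17) hm1 hm2 (by norm_num) (by norm_num)
      (by norm_num) (by decide +kernel) hq17 (by norm_num) hd276
      (hm3.trans (Nat.pow_le_pow_left (hsyl hp e1 (by norm_num)) m))
  · have e1 : (4157776806543360000 : ℕ) = 13 ^ 1 * 319828985118720000 := by norm_num
    rw [hord hp e1 (by norm_num)] at hm2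
    exact chain_end (n := 319828985118720000) (k := 16) (B := 276) (q0 := 17) hm1 hm2 (by norm_num) (by norm_num)
      (by norm_num) (by decide +kernel) hq17 (by norm_num) hd276
      (hm3.trans (Nat.pow_le_pow_left (hsyl hp e1 (by norm_num)) m))
  · have e1 : (4157776806543360000 : ℕ) = 23 ^ 1 * 180772904632320000 := by norm_num
    rw [hord hp e1 (by norm_num)] at hm2
    exact chain_end (n := 180772904632320000) (k := 13) (B := 276) (q0 := 17) hm1 hm2 (by norm_num) (by norm_num)
      (by norm_num) (by decide +kernel) hq17 (by norm_num) hd276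
      (hm3.trans (Nat.pow_le_pow_left (hsyl hp e1 (by norm_num)) m))

/-- **The row `Co1`** of layer (A) of S4979. -/
theorem row_co1 {S : Type} [Group S] (h : Spor.IsoCo1 S) : NoSit S := by
  obtain ⟨e⟩ := h
  exact NoSit.of_equiv e noSit_co1

end Cfsg.Agent.H600.QA
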