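import Cfsg.Agent.H973.QA.Crit
import Cfsg.Agent.H152.QA.PTools
import Cfsg.Agent.H49.Fpf.MonG
import Cfsg.Agent.H435.Fpr.FiTwentyFour
import Cfsg.Agent.S2055

/-!
# S4979, layer (A): the row `Fi24'` (helper600)

The multiplier has order 3, so `V` is a module for `Fi24'` and `p ≠ 3`; `B = 253` (helper49), the criteria of helper973, the
local data of helper435.
-/

set_option autoImplicit false
set_option linter.style.haveILetI false

namespace Cfsg.Agent.H600.QA.FTF

open Cfsg Cfsg.Agent.H80.Fpf Cfsg.Agent.H152.QA Cfsg.Agent.H306.QA Cfsg.Agent.H973.QA Subgroup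

theorem centralizer_zpowers' {S : Type} [Group S] (z : S) :
    centralizer ({z} : Set S) = centralizer (zpowers z : Set S) := by
  apply le_antisymm
  · intro g hg
    rw [mem_centralizer_singleton_iff] at hg
    rw [mem_centralizer_iff]
    intro y hy
    obtain ⟨k, rfl⟩ := mem_zpowers_iff.1 hy
    exact ((show Commute g z from hg).zpow_right k).eq.symm
  · exact centralizer_le (Set.singleton_subset_iff.2 (mem_zpowers z))

theorem ne_of_prime {p q : ℕ} {L V S : Type} [Group L] [Finite L] [AddCommGroup V] [Finite V] [DistribMulAction L V]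
    [Group S] [Finite S] [IsSimpleGroup S] {π : L →* S} {N : Subgroup L} {φ : N →* ℂˣ} (h : Sit (V := V) p q N φ)
    (hπ : IsCover π) {r : ℕ} (hr : r.Prime) (hm : MultDvd S r) : p ≠ r := by
  rintro rfl
  have hZ : Subgroup.center L = π.ker := Cfsg.Agent.H759.QA.center_eq_ker hπ
  have hNle : N ≤ π.ker := hZ ▸ h.cen
  have hN1 : Nat.card N ≠ 1 := fun h1 => h.Nne (Subgroup.card_eq_one.1 h1)
  have hNd : Nat.card N ∣ Nat.card π.ker := Subgroup.card_dvd_of_le hNle
  have hNr : Nat.card N = p := ((Nat.dvd_prime hr).1 (hNd.trans (hm L π hπ))).resolve_left hN1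
  apply h.pZ
  rw [hZ]
  rwa [hNr] at hNd

theorem card_cent_le {S : Type} [Group S] [Finite S] {z : S} {n : ℕ}
    (h : Nat.card (normalizer (zpowers z : Set S)) ≤ n) : Nat.card (centralizer ({z} : Set S)) ≤ n := by
  rw [centralizer_zpowers']
  exact (Nat.card_le_card_of_injective _ (inclusion_injective (centralizer_le_normalizer _))).trans h

/-- `no_ch` with the trivial bound for the normalizer, for `G = S` -/
theorem no_ch_self {p q : ℕ} {V S : Type} [Group S] [Finite S] [AddCommGroup V] [Finite V] [DistribMulAction S V]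
    (h : PSit p q S V) (hS : IsCover (MonoidHom.id S)) {B s N q0 n l : ℕ} (hB : Cfsg.Agent.H122.MinDeg S B)
    (hq2 : 2 ≤ q0) (hq0 : q0 ≤ q) (hN : Nat.card S = N)
    (hn : ∀ R : Subgroup S, Nat.card R = p → Nat.card (normalizer (R : Set S)) ≤ n) (hs : n ≤ s ^ 2)
    (hl : Nat.log q0 N = l) (hnum : p * l < (p - 1) * (B - s)) : False := by
  have := Fact.mk h.hp
  obtain ⟨z, hz⟩ := exists_prime_orderOf_dvd_card' p h.pG
  have h1 := hn (zpowers z) (by rw [Nat.card_zpowers, hz])
  exact PSit.no_ch h hS hB (s := s) (n := 1) hq2 hq0 hN hz ((card_cent_le h1).trans hs) one_pos Nat.card_pos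
    (by rwa [Nat.div_one, hl])

theorem no_fr_self {p q : ℕ} {V S : Type} [Group S] [Finite S] [AddCommGroup V] [Finite V] [DistribMulAction S V]
    (h : PSit p q S V) (hS : IsCover (MonoidHom.id S)) {B s N q0 n l r : ℕ} (hB : Cfsg.Agent.H122.MinDeg S B)
    (hq2 : 2 ≤ q0) (hq0 : q0 ≤ q) (hN : Nat.card S = N) (hr : r.Prime) (ha : Cfsg.Agent.H715.Fpr.Acts p r S)
    (hn : ∀ R : Subgroup S, Nat.card R = r → Nat.card (normalizer (R : Set S)) ≤ n) (hs : n ≤ s ^ 2)
    (hl : Nat.log q0 N = l) (hnum : r * (p * l) < (p - 1) * ((r - 1) * (B - s))) : False := by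
  obtain ⟨g, y, hg, hy, hyg, hne⟩ := ha
  have h1 := hn (zpowers g) (by rw [Nat.card_zpowers, hg])
  refine PSit.no_fr h hS hB (s := s) hq2 hq0 hN hr ?_ hg ((card_cent_le h1).trans hs) hy hyg hne (by rwa [hl])
  rw [MonoidHom.ker_id, Subgroup.card_bot]
  exact hr.one_lt.ne' ∘ Nat.dvd_one.1

theorem q_ge {q : ℕ} (hq : q.Prime) (hqS : ¬ q ∣ 1255205709190661721292800) : 19 ≤ q := by
  by_contra hlt
  have : q < 19 := by omega
  interval_cases q <;> revert hq hqS <;> norm_num

theorem p_cases {p : ℕ} (hp : p.Prime) (hpS : p ∣ 1255205709190661721292800) :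
    p = 2 ∨ p = 3 ∨ p = 5 ∨ p = 7 ∨ p = 11 ∨ p = 13 ∨ p = 17 ∨ p = 23 ∨ p = 29 := by
  have hfac : (1255205709190661721292800 : ℕ) = 2 ^ 21 * 3 ^ 16 * 5 ^ 2 * 7 ^ 3 * 11 * 13 * 17 * 23 * 29 := by norm_num
  rw [hfac] at hpS
  simp only [hp.dvd_mul] at hpS
  have h2 : ∀ {r k : ℕ}, r.Prime → p ∣ r ^ k → p = r := fun hr hd =>
    (Nat.prime_dvd_prime_iff_eq hp hr).1 (hp.dvd_of_dvd_pow hd)
  have h3 : ∀ {r : ℕ}, r.Prime → p ∣ r → p = r := fun hr hd => (Nat.prime_dvd_prime_iff_eq hp hr).1 hd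
  rcases hpS with (((((((h1 | h1) | h1) | h1) | h1) | h1) | h1) | h1) | h1
  · have := h2 Nat.prime_two h1; omega
  · have := h2 Nat.prime_three h1; omega
  · have := h2 Nat.prime_five h1; omega
  · have := h2 (by norm_num) h1; omega
  · have := h3 (by norm_num) h1; omega
  · have := h3 (by norm_num) h1; omega
  · have := h3 (by norm_num) h1; omega
  · have := h3 (by norm_num) h1; omega
  · have := h3 (by norm_num) h1; omega

theorem log_19 : Nat.log 19 1255205709190661721292800 = 18 := by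
  rw [Nat.log_eq_iff (Or.inr ⟨by norm_num, by norm_num⟩)]
  norm_num

theorem noSit_fi24 : NoSit Spor.Fi24' := by
  haveI hs : IsSimpleGroup Spor.Fi24' := Cfsg.Agent.S1698.result.1
  have hcard : Nat.card Spor.Fi24' = 1255205709190661721292800 := Cfsg.Agent.S1698.result.2
  haveI : Finite Spor.Fi24' := Nat.finite_of_card_ne_zero (by rw [hcard]; norm_num)
  intro p q L V _ _ _ _ _ π N φ hπ h
  have hm : MultDvd Spor.Fi24' 3 := multDvd_of_cyclic three_ne_zero Cfsg.Agent.S2055.result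
  have hp3 := ne_of_prime h hπ Nat.prime_three hm
  obtain ⟨_, hP⟩ := h.exists_pSit_prime hπ Nat.prime_three hm
  have hS : IsCover (MonoidHom.id Spor.Fi24') := isCover_id Cfsg.Agent.H49.Fpf.Mon.perfect_fi24
  have hB := minDeg_of_cover hS Cfsg.Agent.H49.Fpf.Fi.minDeg_fi24
  have hq := q_ge hP.hq (by
    have h1 := Cfsg.Agent.H306.QA.q_not_dvd h hπ
    rwa [hcard] at h1)
  have hp := p_cases hP.hp (by
    have h1 := Cfsg.Agent.H306.QA.p_dvd h hπ
    rwa [hcard] at h1)
  have d29 : ∀ R : Subgroup Spor.Fi24', Nat.card R = 29 → Nat.card (normalizer (R : Set Spor.Fi24')) ≤ 812 :=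
    fun _ hR => Nat.le_of_dvd (by norm_num) (Cfsg.Agent.H435.Fpr.FiTwentyFour.data29 hR).2
  have d11 : ∀ R : Subgroup Spor.Fi24', Nat.card R = 11 → Nat.card (normalizer (R : Set Spor.Fi24')) ≤ 2640 :=
    fun _ hR => Cfsg.Agent.H435.Fpr.FiTwentyFour.le11 hR
  rcases hp with rfl | rfl | rfl | rfl | rfl | rfl | rfl | rfl | rfl
  · exact h.odd rfl
  · exact hp3 rfl
  · exact no_fr_self hP hS (s := 52) (r := 11) hB (by norm_num) hq hcard (by norm_num)
      Cfsg.Agent.H435.Fpr.FiTwentyFour.acts5 d11 (by norm_num) log_19 (by norm_num)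
  · exact no_fr_self hP hS (s := 29) (r := 29) hB (by norm_num) hq hcard (by norm_num)
      Cfsg.Agent.H435.Fpr.FiTwentyFour.acts7 d29 (by norm_num) log_19 (by norm_num)
  · exact no_ch_self hP hS (s := 52) hB (by norm_num) hq hcard d11 (by norm_num) log_19 (by norm_num)
  · exact no_ch_self hP hS (s := 75) hB (by norm_num) hq hcard
      (fun _ hR => Cfsg.Agent.H435.Fpr.FiTwentyFour.le13 hR) (by norm_num) log_19 (by norm_num)
  · exact no_ch_self hP hS (s := 24) hB (by norm_num) hq hcard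
      (fun _ hR => Nat.le_of_dvd (by norm_num) (Cfsg.Agent.H435.Fpr.FiTwentyFour.data17 hR).2) (by norm_num) log_19
      (by norm_num)
  · exact no_ch_self hP hS (s := 23) hB (by norm_num) hq hcard
      (fun _ hR => Nat.le_of_dvd (by norm_num) (Cfsg.Agent.H435.Fpr.FiTwentyFour.data23 hR).2) (by norm_num) log_19
      (by norm_num)
  · exact no_ch_self hP hS (s := 29) hB (by norm_num) hq hcard d29 (by norm_num) log_19 (by norm_num)

/-- **The row `Fi24'`** of layer (A) of S4979. -/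
theorem row_fi24 {S : Type} [Group S] (h : Spor.IsoFi24' S) : NoSit S := by
  obtain ⟨e⟩ := h
  exact NoSit.of_equiv e noSit_fi24

end Cfsg.Agent.H600.QA.FTF
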