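import Cfsg.Agent.H973.QA.Crit
import Cfsg.Agent.H991.QA.FiFive
import Cfsg.Agent.H433.Fpr.Fi22
import Cfsg.Agent.S2053

/-!
# S4979, layer (A): the row `Fi22` (helper600)

`B = 24` for all covers (helper991, helper973), the criteria of helper973, the local data of helper433.
-/

set_option autoImplicit false
set_option linter.style.haveILetI false

namespace Cfsg.Agent.H600.QA.FTT

open Cfsg Cfsg.Agent.H80.Fpf Cfsg.Agent.H152.QA Cfsg.Agent.H306.QA Cfsg.Agent.H973.QA Subgroup

theorem centralizer_zpowers' {S : Type} [Group S] (z : S) :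
    centralizer ({z} : Set S) = centralizer (zpowers z : Set S) := by
  apply le_antisymm
  · intro g hg
    rw [mem_centralizer_singleton_iff] at hg
    rw [mem_centralizer_iff]
    intro y hy
    obtain ⟨k, rfl⟩ := mem_zpowers_iff.1 hy
    exact ((show Commute g z from hg).zpow_right k).eq.symm
  · exact centralizer_le (Set.singleton_subset_iff.2 (mem_zpowers z))

/-- the element of order `p` with its centralizer and its normalizer -/
theorem exists_elt {S : Type} [Group S] [Finite S] {p c n : ℕ} (hp : p.Prime) (hd : p ∣ Nat.card S)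
    (h : ∀ R : Subgroup S, Nat.card R = p →
      Nat.card (centralizer (R : Set S)) = c ∧ Nat.card (normalizer (R : Set S)) = n) :
    ∃ z : S, orderOf z = p ∧ Nat.card (centralizer ({z} : Set S)) = c ∧ Nat.card (normalizer (zpowers z : Set S)) = n := by
  have := Fact.mk hp
  obtain ⟨z, hz⟩ := exists_prime_orderOf_dvd_card' p hd
  obtain ⟨h1, h2⟩ := h (zpowers z) (by rw [Nat.card_zpowers, hz])
  exact ⟨z, hz, by rw [centralizer_zpowers', h1], h2⟩

theorem q_ge {q : ℕ} (hq : q.Prime) (hqS : ¬ q ∣ 64561751654400) : 17 ≤ q := by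
  by_contra hlt
  have : q < 17 := by omega
  interval_cases q <;> revert hq hqS <;> norm_num

theorem p_cases {p : ℕ} (hp : p.Prime) (hpS : p ∣ 64561751654400) :
    p = 2 ∨ p = 3 ∨ p = 5 ∨ p = 7 ∨ p = 11 ∨ p = 13 := by
  have hfac : (64561751654400 : ℕ) = 2 ^ 17 * 3 ^ 9 * 5 ^ 2 * 7 * 11 * 13 := by norm_num
  rw [hfac] at hpS
  simp only [hp.dvd_mul] at hpS
  have h2 : ∀ {r k : ℕ}, r.Prime → p ∣ r ^ k → p = r := fun hr hd =>
    (Nat.prime_dvd_prime_iff_eq hp hr).1 (hp.dvd_of_dvd_pow hd)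
  have h3 : ∀ {r : ℕ}, r.Prime → p ∣ r → p = r := fun hr hd => (Nat.prime_dvd_prime_iff_eq hp hr).1 hd
  rcases hpS with ((((h1 | h1) | h1) | h1) | h1) | h1
  · exact Or.inl (h2 Nat.prime_two h1)
  · exact Or.inr (Or.inl (h2 Nat.prime_three h1))
  · exact Or.inr (Or.inr (Or.inl (h2 Nat.prime_five h1)))
  · exact Or.inr (Or.inr (Or.inr (Or.inl (h3 (by norm_num) h1))))
  · exact Or.inr (Or.inr (Or.inr (Or.inr (Or.inl (h3 (by norm_num) h1)))))
  · exact Or.inr (Or.inr (Or.inr (Or.inr (Or.inr (h3 (by norm_num) h1)))))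

theorem log_17 : Nat.log 17 64561751654400 = 11 := by
  rw [Nat.log_eq_iff (Or.inr ⟨by norm_num, by norm_num⟩)]
  norm_num

theorem noSit_fi22 : NoSit Spor.Fi22 := by
  haveI hs : IsSimpleGroup Spor.Fi22 := Cfsg.Agent.S1696.result.1
  have hcard : Nat.card Spor.Fi22 = 64561751654400 := Cfsg.Agent.S1696.result.2
  haveI : Finite Spor.Fi22 := Nat.finite_of_card_ne_zero (by rw [hcard]; norm_num)
  intro p q L V _ _ _ _ _ π N φ hπ h
  have hm : MultDvd Spor.Fi22 6 := multDvd_of_cyclic (by norm_num) Cfsg.Agent.S2053.result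
  obtain ⟨G, _, _, _, ψ, hψ, -, -, hP⟩ := h.exists_pSit' hπ
  have hk : Nat.card ψ.ker ∣ 6 := hm G ψ hψ
  obtain ⟨X, hX, hab, hexp, hcj⟩ := Cfsg.Agent.H991.QA.fi22_five
  have hB : Cfsg.Agent.H122.MinDeg G 24 := by
    have h1 := minDeg_conj hψ Nat.prime_five (fun hd => absurd (hd.trans hk) (by norm_num)) X hab hexp (by
      rintro rfl
      rw [Subgroup.card_bot] at hX
      omega) hcj
    rwa [hX] at h1
  have hq := q_ge hP.hq (by
    have h1 := Cfsg.Agent.H306.QA.q_not_dvd h hπ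
    rwa [hcard] at h1)
  have hp := p_cases hP.hp (by
    have h1 := Cfsg.Agent.H306.QA.p_dvd h hπ
    rwa [hcard] at h1)
  have hlog : ∀ n : ℕ, Nat.log 17 (64561751654400 / n) ≤ 11 := fun n => by
    rw [← log_17]
    exact Nat.log_mono_right (Nat.div_le_self _ _)
  have hd : ∀ {r : ℕ}, r ∣ 64561751654400 → r ∣ Nat.card Spor.Fi22 := fun {r} h => by rwa [hcard]
  rcases hp with rfl | rfl | rfl | rfl | rfl | rfl
  · exact h.odd rfl
  · obtain ⟨g, y, hg, hy, hyg, hne⟩ := Cfsg.Agent.H715.Fpr.acts_of (S := Spor.Fi22) (p := 3) (q := 13) hcard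
      (by decide +kernel) (by decide +kernel) (by decide +kernel) (fun _ hR => Cfsg.Agent.H433.Fpr.Fi22.cn13 hR) 1
      (by decide +kernel)
    have hc : Nat.card (centralizer ({g} : Set Spor.Fi22)) = 13 := by
      rw [centralizer_zpowers']
      exact (Cfsg.Agent.H433.Fpr.Fi22.cn13 (by rw [Nat.card_zpowers, hg])).1
    exact PSit.no_fr hP hψ hB (s := 4) (N := 64561751654400) (q0 := 17) (by norm_num) hq hcard (by norm_num)
      (fun hd => absurd (hd.trans hk) (by norm_num)) hg (by rw [hc]; norm_num) hy hyg hne (by rw [log_17]; norm_num)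
  · obtain ⟨g, y, hg, hy, hyg, hne⟩ := Cfsg.Agent.H715.Fpr.acts_of (S := Spor.Fi22) (p := 5) (q := 11) hcard
      (by decide +kernel) (by decide +kernel) (by decide +kernel) (fun _ hR => Cfsg.Agent.H433.Fpr.Fi22.cn11 hR) 1
      (by decide +kernel)
    have hc : Nat.card (centralizer ({g} : Set Spor.Fi22)) = 22 := by
      rw [centralizer_zpowers']
      exact (Cfsg.Agent.H433.Fpr.Fi22.cn11 (by rw [Nat.card_zpowers, hg])).1
    exact PSit.no_fr hP hψ hB (s := 5) (N := 64561751654400) (q0 := 17) (by norm_num) hq hcard (by norm_num)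
      (fun hd => absurd (hd.trans hk) (by norm_num)) hg (by rw [hc]; norm_num) hy hyg hne (by rw [log_17]; norm_num)
  · obtain ⟨z, hz, h1, h2⟩ := exists_elt (S := Spor.Fi22) (p := 7) (by norm_num) (hd (by norm_num))
      (fun _ hR => Cfsg.Agent.H433.Fpr.Fi22.cn7 hR)
    exact PSit.no_ch hP hψ hB (s := 7) (n := 252) (N := 64561751654400) (q0 := 17) (by norm_num) hq hcard hz
      (by rw [h1]; norm_num) (by norm_num) h2.ge (by have := hlog 252; omega)
  · obtain ⟨z, hz, h1, h2⟩ := exists_elt (S := Spor.Fi22) (p := 11) (by norm_num) (hd (by norm_num))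
      (fun _ hR => Cfsg.Agent.H433.Fpr.Fi22.cn11 hR)
    exact PSit.no_ch hP hψ hB (s := 5) (n := 110) (N := 64561751654400) (q0 := 17) (by norm_num) hq hcard hz
      (by rw [h1]; norm_num) (by norm_num) h2.ge (by have := hlog 110; omega)
  · obtain ⟨z, hz, h1, h2⟩ := exists_elt (S := Spor.Fi22) (p := 13) (by norm_num) (hd (by norm_num))
      (fun _ hR => Cfsg.Agent.H433.Fpr.Fi22.cn13 hR)
    exact PSit.no_ch hP hψ hB (s := 4) (n := 78) (N := 64561751654400) (q0 := 17) (by norm_num) hq hcard hz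
      (by rw [h1]; norm_num) (by norm_num) h2.ge (by have := hlog 78; omega)

/-- **The row `Fi22`** of layer (A) of S4979. -/
theorem row_fi22 {S : Type} [Group S] (h : Spor.IsoFi22 S) : NoSit S := by
  obtain ⟨e⟩ := h
  exact NoSit.of_equiv e noSit_fi22

end Cfsg.Agent.H600.QA.FTT
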